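import Groth.Agent.TruncFreeLib.Lift
import Groth.Agent.PullbackMod.OpenLocus
import Groth.Agent.DCohLib.Restrict

/-!
# A module free generically and on a deep truncation is free
-/

set_option autoImplicit false
set_option backward.isDefEq.respectTransparency false
set_option linter.style.haveILetI false

universe u

open CategoryTheory CategoryTheory.Limits AlgebraicGeometry TopologicalSpace TensorProduct
open Groth.Agent.PullbackMod Groth.Agent.FormalLib

noncomputable section

namespace Groth.Agent.TruncFreeLib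

theorem freeAt_freeMod {Y : Scheme.{u}} (r : ℕ) (y : Y) : FreeAt r (FlatMod.freeMod Y r) y :=
  haveI := (isQCoh_and_isFP_of_isFinLocFree _ (DCohLib.isFinLocFree_freeMod (Y := Y) r)).1
  freeAt_of_restrict_iso _ (DCohLib.restrictFreeMod (⊤ : Y.Opens).ι r) (U := ⊤) trivial

theorem freeAt_of_iso_freeMod {Y : Scheme.{u}} {M : Y.Modules} [Coh.IsQCoh M] {r : ℕ}
    (e : M ≅ FlatMod.freeMod Y r) (y : Y) : FreeAt r M y :=
  freeAt_of_restrict_iso _ ((Scheme.Modules.restrictFunctor (⊤ : Y.Opens).ι).mapIso e ≪≫
    DCohLib.restrictFreeMod (⊤ : Y.Opens).ι r) (U := ⊤) trivial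

/-- Elements of a free module of rank `r` whose images span a free base change of rank `r` span it. -/
theorem span_eq_top_of_isBaseChange {A B : Type u} [CommRing A] [CommRing B] [Algebra A B]
    [IsLocalHom (algebraMap A B)] {M N : Type u} [AddCommGroup M] [Module A M] [AddCommGroup N] [Module A N]
    [Module B N] [IsScalarTower A B N] {l : M →ₗ[A] N} (hl : IsBaseChange B l) {r : ℕ} (e : M ≃ₗ[A] (Fin r → A))
    (v : Fin r → M) (hv : Submodule.span B (Set.range (l ∘ v)) = ⊤) : Submodule.span A (Set.range v) = ⊤ := by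
  classical
  let b : Module.Basis (Fin r) A M := Module.Basis.ofEquivFun e
  let b' : Module.Basis (Fin r) B N := (b.baseChange B).map hl.equiv
  have hb' : ∀ i, b' i = l (b i) := fun i => by
    simp [b', hl.equiv_tmul]
  have hrepr : ∀ k i, b'.repr (l (v k)) i = algebraMap A B (b.repr (v k) i) := fun k i => by
    have h1 : l (v k) = ∑ i, algebraMap A B (b.repr (v k) i) • b' i := by
      simp only [hb', algebraMap_smul, ← map_smul, ← map_sum, b.sum_repr]
    rw [h1, b'.repr_sum_self]
  have hdet : b'.det (l ∘ v) = algebraMap A B (b.det v) := by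
    rw [b'.det_apply, b.det_apply, RingHom.map_det]
    congr 1
    ext i k
    exact hrepr k i
  have hli : LinearIndependent B (l ∘ v) := by
    rw [Fintype.linearIndependent_iff]
    intro c hc
    let T : (Fin r → B) →ₗ[B] (Fin r → B) :=
      b'.equivFun.toLinearMap ∘ₗ Fintype.linearCombination B (l ∘ v)
    have hT : Function.Surjective T := b'.equivFun.surjective.comp (by
      rw [← LinearMap.range_eq_top, Fintype.range_linearCombination]
      exact hv)
    have h0 : T c = 0 := by
      show b'.equivFun (Fintype.linearCombination B (l ∘ v) c) = 0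
      rw [Fintype.linearCombination_apply, hc, map_zero]
    exact congrFun (OrzechProperty.injective_of_surjective_endomorphism T hT (h0.trans (map_zero T).symm))
  have hu : IsUnit (b'.det (l ∘ v)) := (Module.Basis.is_basis_iff_det b').1 ⟨hli, hv⟩
  rw [hdet, isUnit_map_iff] at hu
  exact ((Module.Basis.is_basis_iff_det b).2 hu).2

variable {R : Type u} [CommRing R] [IsDomain R] [IsDiscreteValuationRing R] {ϖ : R} (hϖ : Irreducible ϖ)

include hϖ in
theorem main {X : Scheme.{u}} (f : X ⟶ Spec (CommRingCat.of R)) [IsProper f] [GeometricallyConnected f] :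
    ∃ n : ℕ, ∀ (E : X.Modules), FlatMod.IsFinLocFree E →
      (∃ r : ℕ, Nonempty ((Scheme.Modules.pullback (pullback.fst f
        (Spec.map (CommRingCat.ofHom (algebraMap R (FractionRing R)))))).obj E ≅ FlatMod.freeMod _ r)) →
      (∃ r : ℕ, Nonempty ((Scheme.Modules.pullback (pullback.fst f
        (Spec.map (CommRingCat.ofHom (Ideal.Quotient.mk (Ideal.span {ϖ ^ n})))))).obj E ≅ FlatMod.freeMod _ r)) →
      ∃ r : ℕ, Nonempty (E ≅ FlatMod.freeMod X r) := by
  classical
  letI : X.Over (Spec (CommRingCat.of R)) := ⟨f⟩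
  haveI : IsProper (str R X) := ‹IsProper f›
  haveI : IsLocallyNoetherian X := LocallyOfFiniteType.isLocallyNoetherian f
  obtain ⟨n, hn, hlift⟩ := exists_lift_frame (X := X) hϖ
  refine ⟨n, fun E hE hgen htr => ?_⟩
  obtain ⟨r, ⟨eK⟩⟩ := hgen
  obtain ⟨r', ⟨eN⟩⟩ := htr
  haveI hq := (isQCoh_and_isFP_of_isFinLocFree E hE).1
  have hfp := (isQCoh_and_isFP_of_isFinLocFree E hE).2
  have hfree := (isFinLocFree_iff_freeAt E hfp).1 hE
  let gK := pullback.fst f (Spec.map (CommRingCat.ofHom (algebraMap R (FractionRing R))))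
  let φn := CommRingCat.ofHom (Ideal.Quotient.mk (Ideal.span {ϖ ^ n}))
  let g := pullback.fst f (Spec.map φn)
  haveI := isQCoh_pullback gK E
  haveI := isQCoh_pullback g E
  have hclosed : ∀ x : X, f x = IsLocalRing.closedPoint R → ∃ z, g z = x := fun x hx => by
    have : x ∈ Set.range g := by
      rw [Scheme.Pullback.range_fst]
      show f x ∈ Set.range (Spec.map φn)
      rw [hx]
      show IsLocalRing.closedPoint R ∈ Set.range (PrimeSpectrum.comap (Ideal.Quotient.mk (Ideal.span {ϖ ^ n})))
      rw [range_comap_of_surjective _ _ Ideal.Quotient.mk_surjective, PrimeSpectrum.mem_zeroLocus, Ideal.mk_ker,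
        SetLike.coe_subset_coe, Ideal.span_le, Set.singleton_subset_iff]
      exact Ideal.pow_mem_of_mem _ (by
        show ϖ ∈ IsLocalRing.maximalIdeal R
        rw [IsLocalRing.mem_maximalIdeal]; exact hϖ.not_isUnit) _ hn
    exact this
  have hspec : ∀ x : X, ∃ x₀, x ⤳ x₀ ∧ f x₀ = IsLocalRing.closedPoint R := fun x => by
    obtain ⟨x₀, h1, h2⟩ := f.isClosedMap.specializingMap (IsLocalRing.specializes_closedPoint (f x))
    exact ⟨x₀, h1, h2⟩
  -- the two ranks agree
  obtain ⟨η⟩ : Nonempty ↥(pullback f (Spec.map (CommRingCat.ofHom (algebraMap R (FractionRing R))))) :=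
    (GeometricallyConnected.geometrically_connectedSpace (f := f) _ _ _ (IsPullback.of_hasPullback f _)).toNonempty
  have hrank : r = r' := by
    obtain ⟨x₀, hx₀, hfx₀⟩ := hspec (gK η)
    obtain ⟨z, hz⟩ := hclosed x₀ hfx₀
    subst hz
    obtain ⟨m, hm⟩ := hfree (gK η)
    obtain ⟨m', hm'⟩ := hfree (g z)
    have e1 : m = r := freeAt_unique _ (freeAt_pullback E gK η hm) (freeAt_of_iso_freeMod eK η)
    have e2 : m' = r' := freeAt_unique _ (freeAt_pullback E g z hm') (freeAt_of_iso_freeMod eN z)
    have hop : IsOpen {x : X | FreeAt m' E x} := isOpen_freeAt E hfp m'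
    have e3 : m = m' := freeAt_unique _ hm (hx₀.mem_open hop hm')
    omega
  subst hrank
  letI : (pullback f (Spec.map (CommRingCat.ofHom (algebraMap R (FractionRing R))))).Over
    (Spec (CommRingCat.of (FractionRing R))) := ⟨pullback.snd _ _⟩
  letI : (pullback f (Spec.map φn)).Over (Spec (CommRingCat.of (R ⧸ Ideal.span {ϖ ^ n}))) := ⟨pullback.snd _ _⟩
  have hfrac : letI := (algebraMap R (FractionRing R)).toAlgebra; IsFractionRing R (FractionRing R) := by
    have h := (Algebra.algebra_ext _ _ fun _ => rfl :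
      (algebraMap R (FractionRing R)).toAlgebra = (inferInstance : Algebra R (FractionRing R)))
    rw [h]
    infer_instance
  obtain ⟨s, hs⟩ := hlift E hE r (FractionRing R) (algebraMap R (FractionRing R)) hfrac gK
    (IsPullback.of_hasPullback f _) eK (R ⧸ Ideal.span {ϖ ^ n}) (Ideal.Quotient.mk _) Ideal.Quotient.mk_surjective
    Ideal.mk_ker g (IsPullback.of_hasPullback f _) eN
  let φ : FlatMod.freeMod X r ⟶ E := Sigma.desc fun k => DCohLib.secHom E (s k)
  have hft := (isQCoh_and_isFP_of_isFinLocFree _ (DCohLib.isFinLocFree_freeMod (Y := X) r))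
  haveI := hft.1
  have hbij : ∀ x : X, f x = IsLocalRing.closedPoint R → Function.Bijective (stalkLin φ x) := fun x hx => by
    obtain ⟨z, rfl⟩ := hclosed x hx
    obtain ⟨m, hm⟩ := hfree (g z)
    obtain rfl : m = r := freeAt_unique _ (freeAt_pullback E g z hm) (freeAt_of_iso_freeMod eN z)
    obtain ⟨e⟩ := hm
    letI := (g.stalkMap z).hom.toAlgebra
    letI := Module.compHom (((Scheme.Modules.pullback g).obj E).presheaf.stalk z) (g.stalkMap z).hom
    haveI : IsScalarTower (X.presheaf.stalk (g z)) ((pullback f (Spec.map φn)).presheaf.stalk z)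
      (((Scheme.Modules.pullback g).obj E).presheaf.stalk z) := .of_algebraMap_smul fun _ _ => rfl
    haveI : IsLocalHom (algebraMap (X.presheaf.stalk (g z)) ((pullback f (Spec.map φn)).presheaf.stalk z)) :=
      inferInstanceAs (IsLocalHom (g.stalkMap z).hom)
    have hspan := span_eq_top_of_isBaseChange (isBaseChange_pullStalkL g E z) e
      (fun k => E.presheaf.germ ⊤ (g z) trivial (s k)) (hs z)
    have hsurj : Function.Surjective (stalkLin φ (g z)) := by
      rw [← LinearMap.range_eq_top, eq_top_iff, ← hspan, Submodule.span_le]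
      rintro _ ⟨k, rfl⟩
      refine ⟨stalkLin (Sigma.ι (fun _ : Fin m => Coh.structureModule X) k) (g z)
        ((Coh.structureModule X).presheaf.germ ⊤ (g z) trivial (1 : Γ(X, ⊤))), ?_⟩
      rw [← LinearMap.comp_apply, ← stalkLin_comp, Sigma.ι_desc, stalkLin_germ]
      exact congrArg (E.presheaf.germ ⊤ (g z) trivial)
        ((DCohLib.secHom_app_one E (s k) ⊤).trans (ConcreteCategory.congr_hom (E.presheaf.map_id _) (s k)))
    obtain ⟨e₀⟩ := freeAt_freeMod (Y := X) m (g z)
    let T : (Fin m → X.presheaf.stalk (g z)) →ₗ[X.presheaf.stalk (g z)] (Fin m → X.presheaf.stalk (g z)) :=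
      e.toLinearMap ∘ₗ stalkLin φ (g z) ∘ₗ e₀.symm.toLinearMap
    have hT : Function.Surjective T := e.surjective.comp (hsurj.comp e₀.symm.surjective)
    refine ⟨fun a b hab => e₀.injective (OrzechProperty.injective_of_surjective_endomorphism T hT ?_), hsurj⟩
    simp [T, hab]
  have hopen := isOpen_stalk_bijective (M := FlatMod.freeMod X r) (N := E) φ (CurveLib.isCoh_of_isFinLocFree (DCohLib.isFinLocFree_freeMod (Y := X) r)).2 hfp
  haveI : IsIso φ := (isIso_iff_stalk φ).2 fun x => by
    obtain ⟨x₀, h1, h2⟩ := hspec x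
    exact h1.mem_open hopen (hbij x₀ h2)
  exact ⟨r, ⟨(asIso φ).symm⟩⟩

end Groth.Agent.TruncFreeLib
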