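import Mathlib
import Groth.Agent.BCLib.Model

/-!
# Lifting cocycles from a truncation over a discrete valuation ring
-/

set_option autoImplicit false
set_option linter.style.haveILetI false
set_option backward.isDefEq.respectTransparency false

universe u v

open Submodule
open Groth.Agent.BCLib (Cx CxHom)

namespace Groth.Agent.TruncFreeLib

variable {R : Type u} [CommRing R] [IsDomain R] [IsDiscreteValuationRing R] {ϖ : R} (hϖ : Irreducible ϖ)

include hϖ in
/-- A nonzero element killing `x` gives a power of the uniformizer killing `x`. -/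
theorem exists_pow_smul_eq_zero {M : Type v} [AddCommGroup M] [Module R M] {r : R} (hr : r ≠ 0) {x : M}
    (h : r • x = 0) : ∃ k : ℕ, ϖ ^ k • x = 0 := by
  obtain ⟨k, u, rfl⟩ := IsDiscreteValuationRing.eq_unit_mul_pow_irreducible hr hϖ
  refine ⟨k, ?_⟩
  rw [mul_smul] at h
  exact (IsUnit.smul_eq_zero u.isUnit).1 h

include hϖ in
/-- The torsion of a finite module is killed by one power of the uniformizer. -/
theorem exists_bound_torsion (M : Type v) [AddCommGroup M] [Module R M] [Module.Finite R M] :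
    ∃ c : ℕ, ∀ x ∈ Submodule.torsion R M, ϖ ^ c • x = 0 := by
  classical
  obtain ⟨s, hs⟩ := (IsNoetherian.noetherian (Submodule.torsion R M) : (Submodule.torsion R M).FG)
  have hk : ∀ x : s, ∃ k : ℕ, ϖ ^ k • x.1 = 0 := fun x => by
    obtain ⟨⟨r, hr⟩, hrx⟩ := (Submodule.mem_torsion_iff x.1).1 (hs ▸ subset_span x.2)
    exact exists_pow_smul_eq_zero hϖ (nonZeroDivisors.ne_zero hr) hrx
  choose k hk using hk
  refine ⟨∑ x, k x, fun x hx => ?_⟩
  rw [← hs] at hx
  induction hx using Submodule.span_induction with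
  | mem x hx =>
    obtain ⟨m, hm⟩ := Nat.exists_eq_add_of_le (Finset.single_le_sum (fun i _ => Nat.zero_le (k i))
      (Finset.mem_univ (⟨x, hx⟩ : s)))
    rw [hm, add_comm, pow_add, mul_smul, hk ⟨x, hx⟩, smul_zero]
  | zero => rw [smul_zero]
  | add a b _ _ ha hb => rw [smul_add, ha, hb, add_zero]
  | smul r a _ ha => rw [smul_comm, ha, smul_zero]

/-- Bounded torsion. -/
def Tors (ϖ : R) (t : ℕ) (M : Type v) [AddCommGroup M] [Module R M] : Prop :=
  ∀ (k : ℕ) (x : M), ϖ ^ k • x = 0 → ϖ ^ t • x = 0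

section Source

variable {O₀ O₁ O₂ O₃ : Type v} [AddCommGroup O₀] [Module R O₀] [AddCommGroup O₁] [Module R O₁]
  [AddCommGroup O₂] [Module R O₂] [AddCommGroup O₃] [Module R O₃]
  (d₀ : O₀ →ₗ[R] O₁) (d₁ : O₁ →ₗ[R] O₂) (d₂ : O₂ →ₗ[R] O₃)
  (h₁₂ : ∀ x, d₂ (d₁ x) = 0)

include hϖ h₁₂ in
/-- The structure of the first cohomology of the truncations of a complex. -/
theorem exists_source {t : ℕ} (ht : Tors ϖ t O₃)
    (hf₁ : Module.Finite R (LinearMap.ker d₁ ⧸ (LinearMap.range d₀).comap (LinearMap.ker d₁).subtype))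
    (hf₂ : Module.Finite R (LinearMap.ker d₂ ⧸ (LinearMap.range d₁).comap (LinearMap.ker d₂).subtype)) :
    ∃ (h : ℕ) (g : Fin h → O₁) (a : ℕ), (∀ j, d₁ (g j) = 0) ∧
      (∀ c : Fin h → R, ∑ j, c j • g j ∈ LinearMap.range d₀ → c = 0) ∧
      ∀ (n : ℕ) (z : O₁) (y : O₂), d₁ z = ϖ ^ n • y →
        ∃ (c : Fin h → R) (u : O₀) (w : O₁), ϖ ^ a • z = ∑ j, c j • g j + d₀ u + ϖ ^ n • w := by
  classical
  let Z₁ := LinearMap.ker d₁
  let B₁ := (LinearMap.range d₀).comap Z₁.subtype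
  let Z₂ := LinearMap.ker d₂
  let B₂ := (LinearMap.range d₁).comap Z₂.subtype
  obtain ⟨c₀, hc₀⟩ := exists_bound_torsion hϖ (Z₁ ⧸ B₁)
  obtain ⟨c₂, hc₂⟩ := exists_bound_torsion hϖ (Z₂ ⧸ B₂)
  let T := Submodule.torsion R (Z₁ ⧸ B₁)
  haveI : Module.Free R ((Z₁ ⧸ B₁) ⧸ T) := Module.free_of_finite_type_torsion_free'
  let b := Module.finBasis R ((Z₁ ⧸ B₁) ⧸ T)
  choose q hq using fun j => Submodule.Quotient.mk_surjective T (b j)
  choose z₀ hz₀ using fun j => Submodule.Quotient.mk_surjective B₁ (q j)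
  refine ⟨_, fun j => (z₀ j).1, c₀ + (c₂ + t), fun j => (z₀ j).2, fun c hc => ?_, fun n z y hzy => ?_⟩
  · have h1 : Submodule.Quotient.mk (p := B₁) (∑ j, c j • z₀ j) = 0 := by
      rw [Submodule.Quotient.mk_eq_zero]
      show ((∑ j, c j • z₀ j : Z₁) : O₁) ∈ LinearMap.range d₀
      simpa using hc
    have h2 : ∑ j, c j • b j = 0 := by
      have h3 : T.mkQ (B₁.mkQ (∑ j, c j • z₀ j)) = 0 := by
        rw [show B₁.mkQ (∑ j, c j • z₀ j) = 0 from h1, map_zero]
      simp only [map_sum, map_smul, Submodule.mkQ_apply, hz₀, hq] at h3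
      exact h3
    funext j
    exact Fintype.linearIndependent_iff.1 b.linearIndependent c h2 j
  · -- correct `z` to a cocycle
    have hy : d₂ (ϖ ^ t • y) = 0 := by
      rw [map_smul]
      refine ht n _ ?_
      rw [← map_smul, ← hzy, h₁₂]
    let y' : Z₂ := ⟨ϖ ^ t • y, hy⟩
    have hy' : Submodule.Quotient.mk (p := B₂) y' ∈ Submodule.torsion R _ := by
      refine (Submodule.mem_torsion_iff _).2
        ⟨⟨ϖ ^ n, mem_nonZeroDivisors_of_ne_zero (pow_ne_zero _ hϖ.ne_zero)⟩, ?_⟩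
      show ϖ ^ n • Submodule.Quotient.mk (p := B₂) y' = 0
      rw [← Submodule.Quotient.mk_smul, Submodule.Quotient.mk_eq_zero]
      show ((ϖ ^ n • y' : Z₂) : O₂) ∈ LinearMap.range d₁
      refine ⟨ϖ ^ t • z, ?_⟩
      rw [map_smul, hzy, Submodule.coe_smul, smul_comm]
    have h4 := hc₂ _ hy'
    rw [← Submodule.Quotient.mk_smul, Submodule.Quotient.mk_eq_zero] at h4
    obtain ⟨v, hv⟩ := (show ϖ ^ c₂ • ϖ ^ t • y ∈ LinearMap.range d₁ from h4)
    let z' : Z₁ := ⟨ϖ ^ (c₂ + t) • z - ϖ ^ n • v, by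
      show d₁ _ = 0
      rw [map_sub, map_smul, map_smul, hzy, hv, pow_add, mul_smul, smul_comm (ϖ ^ t), smul_comm (ϖ ^ c₂),
        sub_self]⟩
    let x := Submodule.Quotient.mk (p := B₁) z'
    let c : Fin _ → R := fun j => b.repr (Submodule.Quotient.mk (p := T) x) j
    have hx : x - ∑ j, c j • q j ∈ T := by
      rw [← Submodule.Quotient.mk_eq_zero, ← Submodule.mkQ_apply, map_sub, map_sum]
      simp only [map_smul, Submodule.mkQ_apply, hq, c, b.sum_repr, sub_self]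
    have h5 := hc₀ _ hx
    have h6 : ϖ ^ c₀ • (z' - ∑ j, c j • z₀ j) ∈ B₁ := by
      rw [← Submodule.Quotient.mk_eq_zero, ← Submodule.mkQ_apply, map_smul, map_sub, map_sum]
      simp only [map_smul, Submodule.mkQ_apply, hz₀]
      exact h5
    obtain ⟨u, hu⟩ := (show _ ∈ LinearMap.range d₀ from h6)
    refine ⟨fun j => ϖ ^ c₀ * c j, u, ϖ ^ c₀ • v, ?_⟩
    have h7 : d₀ u = ϖ ^ c₀ • (ϖ ^ (c₂ + t) • z - ϖ ^ n • v) - ϖ ^ c₀ • ∑ j, c j • (z₀ j).1 := by
      rw [hu, Submodule.subtype_apply, SetLike.val_smul, AddSubgroupClass.coe_sub, smul_sub, Submodule.coe_sum]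
      simp [z']
    rw [h7, Finset.smul_sum, pow_add ϖ c₀, mul_smul, smul_sub, smul_comm (ϖ ^ n) (ϖ ^ c₀)]
    simp only [mul_smul]
    abel

end Source

/-- The first cohomology. -/
abbrev H (K : Cx R) (q : ℕ) : Type u :=
  LinearMap.ker (K.d (q + 1)) ⧸ (LinearMap.range (K.d q)).comap (LinearMap.ker (K.d (q + 1))).subtype

/-- Output of `exists_source`. -/
structure SourceData (ϖ : R) (O : Cx R) (h a : ℕ) where
  /-- Cocycles spanning the cohomology up to `ϖ ^ a`. -/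
  g : Fin h → O.X 1
  cocycle : ∀ j, O.d 1 (g j) = 0
  indep : ∀ c : Fin h → R, ∑ j, c j • g j ∈ LinearMap.range (O.d 0) → c = 0
  gen : ∀ (n : ℕ) (z : O.X 1) (y : O.X 2), O.d 1 z = ϖ ^ n • y →
    ∃ (c : Fin h → R) (u : O.X 0) (w : O.X 1), ϖ ^ a • z = ∑ j, c j • g j + O.d 0 u + ϖ ^ n • w

include hϖ in
theorem exists_sourceData (O : Cx R) {t : ℕ} (ht : Tors ϖ t (O.X 3)) (h₁ : Module.Finite R (H O 0))
    (h₂ : Module.Finite R (H O 1)) : ∃ h a, Nonempty (SourceData ϖ O h a) := by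
  obtain ⟨h, g, a, hg, hi, hgen⟩ := exists_source hϖ (O.d 0) (O.d 1) (O.d 2) (O.d_d_apply 1) ht h₁ h₂
  exact ⟨h, a, ⟨⟨g, hg, hi, hgen⟩⟩⟩

/-- A splitting of `E'` as a sum of copies of `O'`, compatible with the differentials. -/
structure Split (O' E' : Cx R) (r : ℕ) where
  /-- The inclusions. -/
  I : Fin r → CxHom O' E'
  /-- The projections. -/
  P : Fin r → CxHom E' O'
  p_i : ∀ k l q x, (P l).f q ((I k).f q x) = if k = l then x else 0
  sum_ip : ∀ q y, ∑ k, (I k).f q ((P k).f q y) = y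

/-- Reduction modulo `ϖ ^ n`. -/
structure IsRed (ϖ : R) (n : ℕ) {K K' : Cx R} (π : CxHom K K') : Prop where
  surj : ∀ q, Function.Surjective (π.f q)
  kill : ∀ q x, π.f q (ϖ ^ n • x) = 0
  ker : ∀ q x, π.f q x = 0 → ∃ y, x = ϖ ^ n • y

/-- Passing to the fraction field. -/
structure IsFrac {K K' : Cx R} (π : CxHom K K') : Prop where
  frac : ∀ q y, ∃ (s : R) (x : K.X q), s ≠ 0 ∧ s • y = π.f q x
  ker : ∀ q x, π.f q x = 0 → ∃ s : R, s ≠ 0 ∧ s • x = 0

theorem comm_apply {K K' : Cx R} (π : CxHom K K') (q : ℕ) (x : K.X q) :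
    K'.d q (π.f q x) = π.f (q + 1) (K.d q x) := LinearMap.congr_fun (π.comm q) x

variable {O E On En OK EK : Cx R} {t h a n r : ℕ} {πOn : CxHom O On} {πEn : CxHom E En} {πOK : CxHom O OK}
  {πEK : CxHom E EK}

include hϖ in
/-- There are as many independent classes upstairs as on the sum of copies. -/
theorem exists_indep (ht : Tors ϖ t (E.X 2)) (D : SourceData ϖ O h a) (hO : IsFrac πOK) (hE : IsFrac πEK)
    (sp : Split OK EK r) :
    ∃ w : Fin r × Fin h → E.X 1, (∀ i, E.d 1 (w i) = 0) ∧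
      ∀ c : Fin r × Fin h → R, ∑ i, c i • w i ∈ LinearMap.range (E.d 0) → c = 0 := by
  classical
  choose s x hs hx using fun i : Fin r × Fin h => hE.frac 1 ((sp.I i.1).f 1 (πOK.f 1 (D.g i.2)))
  refine ⟨fun i => ϖ ^ t • x i, fun i => ?_, fun c hc => ?_⟩
  · have h1 : πEK.f 2 (E.d 1 (x i)) = 0 := by
      rw [← comm_apply, ← hx, map_smul, comm_apply, comm_apply, D.cocycle, map_zero, map_zero, smul_zero]
    obtain ⟨m, hm, hm0⟩ := hE.ker 2 _ h1
    obtain ⟨k, hk⟩ := exists_pow_smul_eq_zero hϖ hm hm0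
    rw [map_smul]
    exact ht k _ hk
  · obtain ⟨u, hu⟩ := hc
    funext ⟨l, j₀⟩
    obtain ⟨s', u', hs', hu'⟩ := hO.frac 0 ((sp.P l).f 0 (πEK.f 0 u))
    let e : Fin h → R := fun j => c (l, j) * ϖ ^ t * s (l, j)
    have h1 : ∑ j, e j • πOK.f 1 (D.g j) = OK.d 0 ((sp.P l).f 0 (πEK.f 0 u)) := by
      rw [comm_apply, comm_apply, hu]
      simp only [map_sum, map_smul, ← hx, sp.p_i, Fintype.sum_prod_type, smul_ite, smul_zero]
      rw [Finset.sum_eq_single l (fun k _ hk => Finset.sum_eq_zero fun j _ => if_neg hk) (by simp)]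
      simp [e, mul_smul]
    have h2 : πOK.f 1 (∑ j, (s' * e j) • D.g j - O.d 0 u') = 0 := by
      rw [map_sub, ← comm_apply, ← hu', map_smul, ← h1, Finset.smul_sum]
      simp [mul_smul]
    obtain ⟨m, hm, hm0⟩ := hO.ker 1 _ h2
    have h3 := D.indep (fun j => m * (s' * e j)) ⟨m • u', by
      rw [smul_sub, sub_eq_zero] at hm0
      rw [map_smul, ← hm0, Finset.smul_sum]
      simp only [mul_smul]⟩
    have h4 := congrFun h3 j₀
    simpa [e, hm, hs', hs (l, j₀), hϖ.ne_zero] using h4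

include hϖ in
/-- The first cohomology of a truncation is generated by few elements up to a bounded power. -/
theorem exists_few_gens (ht : Tors ϖ t (E.X 2)) (D : SourceData ϖ O h a) (hO : IsRed ϖ n πOn) (hE : IsRed ϖ n πEn)
    (sp : Split On En r) :
    ∃ (m : ℕ) (x : Fin m → E.X 1), m ≤ r * h ∧ (∀ i, E.d 1 (x i) = 0) ∧
      ∀ z, E.d 1 z = 0 → ∃ (c : Fin m → R) (u : E.X 0) (w : E.X 1), E.d 1 w = 0 ∧
        ϖ ^ (a + t) • z = ∑ i, c i • ϖ ^ (a + t) • x i + E.d 0 u + ϖ ^ n • w := by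
  classical
  let Q := En.X 1 ⧸ LinearMap.range (En.d 0)
  let φ : LinearMap.ker (E.d 1) →ₗ[R] Q :=
    ϖ ^ a • ((LinearMap.range (En.d 0)).mkQ ∘ₗ πEn.f 1 ∘ₗ (LinearMap.ker (E.d 1)).subtype)
  let ψ : (Fin r × Fin h → R) →ₗ[R] Q := Fintype.linearCombination R fun i =>
    (LinearMap.range (En.d 0)).mkQ ((sp.I i.1).f 1 (πOn.f 1 (D.g i.2)))
  have hle : LinearMap.range φ ≤ LinearMap.range ψ := by
    rintro _ ⟨⟨z, hz⟩, rfl⟩
    have hk : ∀ k, ∃ c : Fin h → R, ϖ ^ a • (LinearMap.range (En.d 0)).mkQ ((sp.I k).f 1 ((sp.P k).f 1 (πEn.f 1 z))) =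
        ∑ j, c j • (LinearMap.range (En.d 0)).mkQ ((sp.I k).f 1 (πOn.f 1 (D.g j))) := fun k => by
      obtain ⟨z', hz'⟩ := hO.surj 1 ((sp.P k).f 1 (πEn.f 1 z))
      have h1 : πOn.f 2 (O.d 1 z') = 0 := by
        rw [← comm_apply, hz', comm_apply, comm_apply, LinearMap.mem_ker.1 hz, map_zero, map_zero]
      obtain ⟨y, hy⟩ := hO.ker 2 _ h1
      obtain ⟨c, u, w, hc⟩ := D.gen n z' y hy
      refine ⟨c, ?_⟩
      rw [← hz', ← map_smul, ← map_smul, ← map_smul, hc]
      simp only [map_add, hO.kill, map_zero, add_zero, map_sum, map_smul, ← comm_apply, Submodule.mkQ_apply,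
        (Submodule.Quotient.mk_eq_zero _).2 (LinearMap.mem_range_self _ _)]
    choose c hc using hk
    refine ⟨fun i => c i.1 i.2, ?_⟩
    show Fintype.linearCombination R _ _ = ϖ ^ a • (LinearMap.range (En.d 0)).mkQ (πEn.f 1 z)
    rw [Fintype.linearCombination_apply, ← sp.sum_ip 1 (πEn.f 1 z), map_sum, Finset.smul_sum, Fintype.sum_prod_type]
    exact Finset.sum_congr rfl fun k _ => (hc k).symm
  let W := (LinearMap.range φ).comap ψ
  obtain ⟨m, b⟩ := Submodule.basisOfPid (Pi.basisFun R (Fin r × Fin h)) W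
  have hm : m ≤ r * h := by
    have h1 := (b.linearIndependent.map' W.subtype (Submodule.ker_subtype W)).fintype_card_le_finrank
    simpa using h1
  choose x hx using fun i => (b i).2
  refine ⟨m, fun i => (x i).1, hm, fun i => (x i).2, fun z hz => ?_⟩
  obtain ⟨f, hf⟩ := hle (LinearMap.mem_range_self φ ⟨z, hz⟩)
  let f' : W := ⟨f, ⟨⟨z, hz⟩, hf.symm⟩⟩
  let c : Fin m → R := fun i => b.repr f' i
  have h1 : φ (⟨z, hz⟩ - ∑ i, c i • x i) = 0 := by
    rw [map_sub, map_sum, sub_eq_zero, ← hf]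
    have e1 : f = ∑ i, c i • (b i : Fin r × Fin h → R) := by
      exact (congrArg Subtype.val (b.sum_repr f')).symm.trans (by rw [Submodule.coe_sum]; rfl)
    rw [e1, map_sum]
    exact Finset.sum_congr rfl fun i _ => by rw [map_smul, map_smul, hx]
  have h1' : Submodule.Quotient.mk (p := LinearMap.range (En.d 0))
      (ϖ ^ a • πEn.f 1 ((⟨z, hz⟩ - ∑ i, c i • x i : LinearMap.ker (E.d 1)) : E.X 1)) = 0 := h1
  simp only [Submodule.Quotient.mk_eq_zero, AddSubgroupClass.coe_sub, Submodule.coe_sum, SetLike.val_smul,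
    ← map_smul] at h1'
  obtain ⟨u', hu'⟩ := h1'
  obtain ⟨u, rfl⟩ := hE.surj 0 u'
  have h2 : πEn.f 1 (ϖ ^ a • (z - ∑ i, c i • (x i).1) - E.d 0 u) = 0 := by
    rw [map_sub, ← comm_apply, hu', sub_self]
  obtain ⟨y, hy⟩ := hE.ker 1 _ h2
  have hyd : E.d 1 (ϖ ^ t • y) = 0 := by
    rw [map_smul]
    refine ht n _ ?_
    rw [← map_smul, ← hy, map_sub, E.d_d_apply, map_smul, map_sub, hz, map_sum]
    simp [fun i => LinearMap.mem_ker.1 (x i).2]
  refine ⟨c, ϖ ^ t • u, ϖ ^ t • y, hyd, ?_⟩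
  rw [sub_eq_iff_eq_add, smul_sub, Finset.smul_sum, sub_eq_iff_eq_add] at hy
  rw [add_comm a t, pow_add, mul_smul, hy, smul_add, smul_add, map_smul, Finset.smul_sum, smul_comm (ϖ ^ t) (ϖ ^ n)]
  simp only [smul_comm (c _) (ϖ ^ a), smul_comm (c _) (ϖ ^ t), mul_smul]
  abel

include hϖ in
/-- The torsion of the first cohomology is killed by a bounded power. -/
theorem torsion_bounded (ht : Tors ϖ t (E.X 2)) (hfin : Module.Finite R (H E 0)) (D : SourceData ϖ O h a)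
    (hn : a + t < n) (hOn : IsRed ϖ n πOn) (hEn : IsRed ϖ n πEn) (sn : Split On En r)
    (hOK : IsFrac πOK) (hEK : IsFrac πEK) (sK : Split OK EK r) (z : H E 0) (hz : z ∈ Submodule.torsion R (H E 0)) :
    ϖ ^ (a + t) • z = 0 := by
  classical
  obtain ⟨w, hw, hind⟩ := exists_indep hϖ ht D hOK hEK sK
  obtain ⟨m, x, hm, hx, hgen⟩ := exists_few_gens hϖ ht D hOn hEn sn
  let N := H E 0
  let B := (LinearMap.range (E.d 0)).comap (LinearMap.ker (E.d 1)).subtype
  let P : Submodule R N := LinearMap.range (ϖ ^ (a + t) • (LinearMap.id : N →ₗ[R] N))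
  have hP : ∀ q, ϖ ^ (a + t) • q ∈ P := fun q => ⟨q, rfl⟩
  haveI : Module.Finite R N := hfin
  let xq : Fin m → N := fun i => ϖ ^ (a + t) • Submodule.Quotient.mk (p := B) ⟨x i, hx i⟩
  have hle : P ≤ Submodule.span R (Set.range xq) ⊔ IsLocalRing.maximalIdeal R • P := by
    rintro _ ⟨q, rfl⟩
    obtain ⟨⟨z, hz⟩, rfl⟩ := Submodule.Quotient.mk_surjective B q
    obtain ⟨c, u, w', hw', he⟩ := hgen z hz
    have key : B.mkQ (ϖ ^ (a + t) • (⟨z, hz⟩ : LinearMap.ker (E.d 1))) =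
        B.mkQ ((∑ i, c i • ϖ ^ (a + t) • (⟨x i, hx i⟩ : LinearMap.ker (E.d 1))) + ϖ ^ n • ⟨w', hw'⟩) := by
      refine (Submodule.Quotient.eq B).2 ⟨u, ?_⟩
      simp [he]
    simp only [map_add, map_sum, map_smul, Submodule.mkQ_apply] at key
    rw [LinearMap.smul_apply, LinearMap.id_apply, key]
    refine add_mem (mem_sup_left (sum_mem fun i _ => smul_mem _ _ (subset_span ⟨i, rfl⟩))) (mem_sup_right ?_)
    obtain ⟨k, rfl⟩ := Nat.exists_eq_add_of_le hn
    rw [Nat.succ_eq_add_one, show a + t + 1 + k = (k + 1) + (a + t) by omega, pow_add, mul_smul]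
    refine smul_mem_smul ?_ (hP _)
    exact Ideal.pow_mem_of_mem _ (by rw [IsLocalRing.mem_maximalIdeal]; exact hϖ.not_isUnit) _ (by omega)
  have hspan : P ≤ Submodule.span R (Set.range xq) :=
    Submodule.le_of_le_smul_of_le_jacobson_bot (IsNoetherian.noetherian P) (IsLocalRing.maximalIdeal_le_jacobson _) hle
  -- `P` is free
  have hcard : m ≤ Fintype.card (Fin r × Fin h) := by simpa using hm
  let emb : Fin m → Fin r × Fin h := (Fintype.equivFin _).symm ∘ Fin.castLE hcard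
  have hemb : Function.Injective emb := (Fintype.equivFin _).symm.injective.comp (Fin.castLE_injective hcard)
  let wq : Fin r × Fin h → P := fun i => ⟨ϖ ^ (a + t) • Submodule.Quotient.mk (p := B) ⟨w i, hw i⟩, hP _⟩
  let i₀ : (Fin r × Fin h → R) →ₗ[R] P := Fintype.linearCombination R wq
  let f₀ : (Fin r × Fin h → R) →ₗ[R] P :=
    Fintype.linearCombination R (Function.extend emb (fun i => (⟨xq i, hP _⟩ : P)) 0)
  have hi₀ : Function.Injective i₀ := by
    rw [injective_iff_map_eq_zero]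
    intro c hc
    have h0 := congrArg Subtype.val hc
    have h0'' : B.mkQ (∑ i, c i • ϖ ^ (a + t) • (⟨w i, hw i⟩ : LinearMap.ker (E.d 1))) = 0 := by
      simpa [i₀, wq, Fintype.linearCombination_apply, map_sum] using h0
    rw [Submodule.mkQ_apply, Submodule.Quotient.mk_eq_zero] at h0''
    have h0' : ∑ i, (c i * ϖ ^ (a + t)) • w i ∈ LinearMap.range (E.d 0) := by
      simpa [mul_smul, B] using h0''
    have h2 := hind _ h0'
    funext i
    simpa [hϖ.ne_zero] using congrFun h2 i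
  have hf₀ : Function.Surjective f₀ := by
    intro p
    obtain ⟨c, hc⟩ := (Submodule.mem_span_range_iff_exists_fun R).1 (hspan p.2)
    refine ⟨∑ i, c i • Pi.single (emb i) 1, Subtype.ext ?_⟩
    rw [map_sum, Submodule.coe_sum]
    refine Eq.trans (Finset.sum_congr rfl fun i _ => ?_) hc
    simp [f₀, hemb.extend_apply]
  haveI : Module.Finite R P := Module.Finite.of_surjective f₀ hf₀
  have hf₁ := OrzechProperty.injective_of_surjective_of_injective i₀ f₀ hi₀ hf₀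
  obtain ⟨c, hc⟩ := hf₀ ⟨ϖ ^ (a + t) • z, hP _⟩
  obtain ⟨⟨s, hs⟩, hsz⟩ := (Submodule.mem_torsion_iff z).1 hz
  have h3 : s • c = 0 := hf₁ (by
    rw [map_smul, hc, map_zero]
    exact Subtype.ext (by
      show s • ϖ ^ (a + t) • z = 0
      rw [smul_comm, show s • z = 0 from hsz, smul_zero]))
  have h4 : c = 0 := (smul_eq_zero.1 h3).resolve_left (nonZeroDivisors.ne_zero hs)
  rw [h4, map_zero] at hc
  exact (congrArg Subtype.val hc).symm

include hϖ in
/-- A cocycle on the truncation lifts after one more reduction. -/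
theorem exists_lift (ht₂ : Tors ϖ t (E.X 2)) (hfin : Module.Finite R (H E 0)) (D : SourceData ϖ O h a)
    (hn : 2 * t + a < n) (hOn : IsRed ϖ n πOn) (hEn : IsRed ϖ n πEn) (sn : Split On En r)
    (hOK : IsFrac πOK) (hEK : IsFrac πEK) (sK : Split OK EK r) (v : E.X 0) (hv : En.d 0 (πEn.f 0 v) = 0) :
    ∃ (v' y : E.X 0), E.d 0 v' = 0 ∧ v' = v + ϖ • y := by
  obtain ⟨w, hw⟩ := hEn.ker 1 _ ((comm_apply πEn 0 v).symm.trans hv)
  have hw' : E.d 1 (ϖ ^ t • w) = 0 := by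
    rw [map_smul]
    refine ht₂ n _ ?_
    rw [← map_smul, ← hw, E.d_d_apply]
  let q : H E 0 := Submodule.Quotient.mk ⟨ϖ ^ t • w, hw'⟩
  have hq : q ∈ Submodule.torsion R (H E 0) := by
    refine (Submodule.mem_torsion_iff _).2
      ⟨⟨ϖ ^ n, mem_nonZeroDivisors_of_ne_zero (pow_ne_zero _ hϖ.ne_zero)⟩, ?_⟩
    show ϖ ^ n • q = 0
    rw [← Submodule.Quotient.mk_smul, Submodule.Quotient.mk_eq_zero]
    refine ⟨ϖ ^ t • v, ?_⟩
    rw [map_smul, hw]
    simp [smul_comm (ϖ ^ t)]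
  have h1 := torsion_bounded hϖ ht₂ hfin D (by omega) hOn hEn sn hOK hEK sK q hq
  rw [← Submodule.Quotient.mk_smul, Submodule.Quotient.mk_eq_zero] at h1
  obtain ⟨u, hu⟩ := h1
  obtain ⟨k, rfl⟩ := Nat.exists_eq_add_of_le hn
  refine ⟨v + ϖ • -(ϖ ^ k • u), -(ϖ ^ k • u), ?_, rfl⟩
  rw [map_add, hw, map_smul, map_neg, map_smul, hu]
  simp only [Submodule.subtype_apply, SetLike.val_smul, smul_neg, smul_smul, ← pow_add, ← pow_succ']
  rw [show k + (a + t + t) + 1 = (2 * t + a).succ + k by omega, add_neg_cancel]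

end Groth.Agent.TruncFreeLib
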