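import Groth.Agent.TruncFreeLib.Tors
import Groth.Agent.BCLib.BaseChange
import Groth.Agent.BCLib.Fibre

/-!
# Lifting a frame from a truncation
-/

set_option autoImplicit false
set_option backward.isDefEq.respectTransparency false
set_option linter.style.haveILetI false

universe u

open CategoryTheory CategoryTheory.Limits AlgebraicGeometry TopologicalSpace TensorProduct
open Groth.Agent.CohBase Groth.Agent.ProjCoh Groth.Agent.FormalLib Groth.Agent.PullbackMod Groth.Agent.ParaFLib
  Groth.Agent.AmpleLib
open Groth.Agent.BCLib (Cx CxHom)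

noncomputable section

namespace Groth.Agent.TruncFreeLib

/-- The Čech complex of a module. -/
def coCx (R : Type u) [CommRing R] {X : Scheme.{u}} [X.Over (Spec (CommRingCat.of R))] {ι : Type u}
    (V : ι → X.Opens) (G : X.Modules) : Cx R where
  X q := Coch (str R X) G V q
  d q := dL (str R X) G V q
  d_d q := LinearMap.ext (BCLib.dL_dL R V G q)

/-- A complex over `B` seen over `R`. -/
def resCx {R B : Type u} [CommRing R] [CommRing B] (φ : R →+* B) (K : Cx B) : Cx R where
  X := K.X
  instMod n := Module.compHom (K.X n) φ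
  d n :=
    letI := fun m => Module.compHom (K.X m) φ
    { toFun := K.d n
      map_add' := map_add _
      map_smul' := fun r x => (K.d n).map_smul (φ r) x }
  d_d n := by
    letI := fun m => Module.compHom (K.X m) φ
    exact LinearMap.ext fun x => K.d_d_apply n x

/-- A map of complexes over `B` seen over `R`. -/
def resHom {R B : Type u} [CommRing R] [CommRing B] (φ : R →+* B) {K K' : Cx B} (f : CxHom K K') :
    CxHom (resCx φ K) (resCx φ K') where
  f n :=
    letI := fun m => Module.compHom (K.X m) φ
    letI := fun m => Module.compHom (K'.X m) φ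
    { toFun := f.f n
      map_add' := map_add _
      map_smul' := fun r x => (f.f n).map_smul (φ r) x }
  comm n := LinearMap.ext fun x => LinearMap.congr_fun (f.comm n) x

/-- A map of modules on Čech complexes. -/
def coHom (R : Type u) [CommRing R] {X : Scheme.{u}} [X.Over (Spec (CommRingCat.of R))] {ι : Type u}
    (V : ι → X.Opens) {G G' : X.Modules} (f : G ⟶ G') : CxHom (coCx R V G) (coCx R V G') where
  f q := cochMap V f q
  comm q := LinearMap.ext fun x => dL_cochMap V f q x

section Pull

variable {R : Type u} [CommRing R] {X X' : Scheme.{u}} [X.Over (Spec (CommRingCat.of R))] {B : Type u} [CommRing B]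
  [X'.Over (Spec (CommRingCat.of B))] (g : X' ⟶ X) (φ : R →+* B)
  (hc : IsPullback g (str B X') (str R X) (Spec.map (CommRingCat.ofHom φ)))
  {ι : Type u} (V : ι → X.Opens) (G : X.Modules)

/-- Inverse image of Čech cochains. -/
def pullCx : CxHom (coCx R V G)
    (resCx φ (coCx B (ProperFin.preCov g V) ((Scheme.Modules.pullback g).obj G))) where
  f q := BCLib.pullCoch (R := CommRingCat.of R) (R' := CommRingCat.of B) g (CommRingCat.ofHom φ) hc V G q
  comm q := LinearMap.ext fun x =>
    BCLib.dL_pullCoch (R := CommRingCat.of R) (R' := CommRingCat.of B) g (CommRingCat.ofHom φ) hc V G q x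

/-- Inverse image of cochains in one degree. -/
abbrev pullC (q : ℕ) :=
  BCLib.pullCoch (R := CommRingCat.of R) (R' := CommRingCat.of B) g (CommRingCat.ofHom φ) hc V G q

variable [Finite ι] [Coh.IsQCoh G] (haff : ∀ (m : ℕ) (i : Fin (m + 1) → ι), IsAffineOpen (inter V i))

include haff in
theorem isBaseChange_pullCx (q : ℕ) :
    letI := φ.toAlgebra
    letI := Module.compHom (Coch (str B X') ((Scheme.Modules.pullback g).obj G) (ProperFin.preCov g V) q) φ
    haveI : IsScalarTower R B (Coch (str B X') ((Scheme.Modules.pullback g).obj G) (ProperFin.preCov g V) q) :=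
      .of_algebraMap_smul fun _ _ => rfl
    IsBaseChange B (pullC g φ hc V G q) :=
  BCLib.isBaseChange_pullCoch (R := CommRingCat.of R) (R' := CommRingCat.of B) g (CommRingCat.ofHom φ) hc V G haff q

include haff in
/-- Modulo a power of `ϖ`. -/
theorem isRed_pullCx (ϖ : R) (n : ℕ) (hφ : Function.Surjective φ) (hker : RingHom.ker φ = Ideal.span {ϖ ^ n}) :
    IsRed ϖ n (pullCx g φ hc V G) := by
  letI := φ.toAlgebra
  refine ⟨fun q y => ?_, fun q x => ?_, fun q x hx => ?_⟩
  all_goals letI := Module.compHom (Coch (str B X') ((Scheme.Modules.pullback g).obj G) (ProperFin.preCov g V) q) φ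
  all_goals haveI : IsScalarTower R B (Coch (str B X') ((Scheme.Modules.pullback g).obj G) (ProperFin.preCov g V) q) :=
      .of_algebraMap_smul fun _ _ => rfl
  all_goals have hb := isBaseChange_pullCx g φ hc V G haff q
  · obtain ⟨w, hw⟩ := hb.equiv.surjective y
    obtain ⟨c, rfl⟩ := TensorProduct.mk_surjective R (Coch (str R X) G V q) B hφ w
    exact ⟨c, by rw [← hw]; exact ((hb.equiv_tmul 1 c).trans (one_smul _ _)).symm⟩
  · rw [map_smul]
    have h0 : φ (ϖ ^ n) = 0 := RingHom.mem_ker.1 (hker ▸ Ideal.mem_span_singleton_self _)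
    show φ (ϖ ^ n) • (show Coch (str B X') ((Scheme.Modules.pullback g).obj G) (ProperFin.preCov g V) q from
      (pullCx g φ hc V G).f q x) = 0
    rw [h0, zero_smul]
  · have h1 : (1 : B) ⊗ₜ[R] (show Coch (str R X) G V q from x) = 0 := by
      apply hb.equiv.injective
      rw [hb.equiv_tmul, one_smul, map_zero]
      exact hx
    let eB : (R ⧸ RingHom.ker φ) ≃ₗ[R] B :=
      (Ideal.quotientKerAlgEquivOfSurjective (f := Algebra.ofId R B) hφ).toLinearEquiv
    have h2 : (show Coch (str R X) G V q from x) ⊗ₜ[R] (1 : R ⧸ RingHom.ker φ) = 0 := by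
      apply (TensorProduct.comm R _ _ ≪≫ₗ TensorProduct.congr eB (LinearEquiv.refl R _)).injective
      rw [map_zero]
      simpa [eB] using h1
    have h3 := (BCLib.tmul_one_eq_zero_iff (RingHom.ker φ) _).1 h2
    rw [hker, Submodule.ideal_span_singleton_smul] at h3
    obtain ⟨y, -, hy⟩ := h3
    exact ⟨y, hy.symm⟩

include haff in
/-- To the field of fractions. -/
theorem isFrac_pullCx [IsDomain R]
    (hloc : letI := φ.toAlgebra; IsFractionRing R B) : IsFrac (pullCx g φ hc V G) := by
  letI := φ.toAlgebra
  haveI : IsLocalization (nonZeroDivisors R) B := hloc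
  refine ⟨fun q y => ?_, fun q x hx => ?_⟩
  all_goals letI := Module.compHom (Coch (str B X') ((Scheme.Modules.pullback g).obj G) (ProperFin.preCov g V) q) φ
  all_goals haveI : IsScalarTower R B (Coch (str B X') ((Scheme.Modules.pullback g).obj G) (ProperFin.preCov g V) q) :=
      .of_algebraMap_smul fun _ _ => rfl
  all_goals haveI : IsLocalizedModule (nonZeroDivisors R) (pullC g φ hc V G q) :=
    (isLocalizedModule_iff_isBaseChange (nonZeroDivisors R) B _).2 (isBaseChange_pullCx g φ hc V G haff q)
  · obtain ⟨⟨c, s⟩, hs⟩ := IsLocalizedModule.surj (nonZeroDivisors R) (pullC g φ hc V G q) y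
    exact ⟨s.1, c, nonZeroDivisors.ne_zero s.2, hs⟩
  · obtain ⟨s, hs⟩ := (IsLocalizedModule.eq_zero_iff (nonZeroDivisors R) (pullC g φ hc V G q)).1 hx
    exact ⟨s.1, nonZeroDivisors.ne_zero s.2, hs⟩

end Pull

/-- A splitting of a module as a sum of copies gives one of Čech complexes. -/
theorem exists_split {R B : Type u} [CommRing R] [CommRing B] (φ : R →+* B) {X : Scheme.{u}}
    [X.Over (Spec (CommRingCat.of B))] {ι : Type u} (V : ι → X.Opens) {r : ℕ} {O G : X.Modules}
    (i : Fin r → (O ⟶ G)) (p : Fin r → (G ⟶ O)) (h₁ : ∀ k l, i k ≫ p l = if k = l then 𝟙 O else 0)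
    (h₂ : ∑ k, p k ≫ i k = 𝟙 G) :
    ∃ sp : Split (resCx φ (coCx B V O)) (resCx φ (coCx B V G)) r, ∀ k, sp.I k = resHom φ (coHom B V (i k)) := by
  classical
  refine ⟨⟨fun k => resHom φ (coHom B V (i k)), fun k => resHom φ (coHom B V (p k)), fun k l q x => ?_,
    fun q y => ?_⟩, fun k => rfl⟩
  · show cochMap V (p l) q (cochMap V (i k) q x) = _
    rw [← LinearMap.comp_apply, ← BCLib.cochMap_comp, h₁]
    split_ifs <;> rfl
  · refine (fun h => h y : (∀ y : Coch (str B X) G V q,
      ∑ k, cochMap (A := B) V (i k) q (cochMap V (p k) q y) = y) → _) fun y => ?_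
    simp only [← LinearMap.comp_apply, ← BCLib.cochMap_comp]
    let F : (G ⟶ G) →+ (Coch (str B X) G V q →ₗ[B] Coch (str B X) G V q) :=
      AddMonoidHom.mk' (fun f => cochMap V f q) fun f f' => BCLib.cochMap_add' V f f' q
    have h := congrArg F h₂
    rw [map_sum] at h
    exact (LinearMap.sum_apply _ _ y).symm.trans (LinearMap.congr_fun h y)

end Groth.Agent.TruncFreeLib
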