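import Groth.Agent.TruncFreeLib.Cech
import Groth.Agent.PullbackMod.FibreRank

/-!
# Sections framing a module along a truncation
-/

set_option autoImplicit false
set_option backward.isDefEq.respectTransparency false
set_option linter.style.haveILetI false

universe u

open CategoryTheory CategoryTheory.Limits AlgebraicGeometry TopologicalSpace TensorProduct
open Groth.Agent.CohBase Groth.Agent.ProjCoh Groth.Agent.FormalLib Groth.Agent.PullbackMod Groth.Agent.ParaFLib
  Groth.Agent.AmpleLib
open Groth.Agent.BCLib (Cx CxHom)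

noncomputable section

namespace Groth.Agent.TruncFreeLib

variable {R : Type u} [CommRing R] {X : Scheme.{u}} [X.Over (Spec (CommRingCat.of R))]

/-- The Čech cohomology of a coherent module on a proper scheme is finite. -/
theorem finite_H [IsNoetherianRing R] [IsProper (str R X)] {ι : Type u} [Finite ι] (V : ι → X.Opens)
    (hcov : (⊤ : X.Opens) ≤ iSup V) (haff : ∀ (m : ℕ) (i : Fin (m + 1) → ι), IsAffineOpen (inter V i))
    {G : X.Modules} (hG : Coh.IsCoh G) (q : ℕ) : Module.Finite R (H (coCx R V G) q) := by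
  haveI : Coh.IsQCoh G := hG.1
  haveI : IsLocallyNoetherian X := LocallyOfFiniteType.isLocallyNoetherian (str R X)
  haveI : CompactSpace X := QuasiCompact.compactSpace_of_compactSpace (str R X)
  haveI : IsNoetherian X := ⟨⟩
  haveI : Module.Finite R (Coh.HH X G (q + 1)) := ProperFin.allFin_of_isCoh (str R X) G hG (q + 1)
  let f := FormalLib.cls (A := R) V hcov haff G (q + 1)
  have hker : LinearMap.ker f = (LinearMap.range (dL (str R X) G V q)).comap
      (LinearMap.ker (dL (str R X) G V (q + 1))).subtype := by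
    ext z
    rw [LinearMap.mem_ker, FormalLib.cls_eq_zero_iff (A := R) V hcov haff G (q + 1) z]
    show (z : Coch (str R X) G V (q + 1)) ∈ Submodule.map (dL (str R X) G V q) _ ↔ _
    rw [pow_zero, Ideal.one_eq_top, Submodule.top_smul, Submodule.map_top]
    rfl
  exact Module.Finite.equiv ((Submodule.quotEquivOfEq _ _ hker.symm).trans
    (f.quotKerEquivOfSurjective (FormalLib.cls_surjective (A := R) V hcov haff G (q + 1)))).symm

theorem stalkLin_add' {Y : Scheme.{u}} {M N : Y.Modules} (φ ψ : M ⟶ N) (y : Y) (w : M.presheaf.stalk y) :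
    stalkLin (φ + ψ) y w = stalkLin φ y w + stalkLin ψ y w := by
  obtain ⟨U, hy, m, rfl⟩ := TopCat.Presheaf.exists_germ_eq M.presheaf w
  rw [stalkLin_germ, stalkLin_germ, stalkLin_germ, ← map_add]
  rfl

theorem stalkLin_sum' {Y : Scheme.{u}} {M N : Y.Modules} {κ : Type*} (t : Finset κ) (f : κ → (M ⟶ N)) (y : Y)
    (w : M.presheaf.stalk y) : stalkLin (∑ i ∈ t, f i) y w = ∑ i ∈ t, stalkLin (f i) y w :=
  map_sum (AddMonoidHom.mk' (fun g : M ⟶ N => stalkLin g y w) fun g g' => stalkLin_add' g g' y w) f t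

theorem stalkLin_id' {Y : Scheme.{u}} {M : Y.Modules} (y : Y) (w : M.presheaf.stalk y) :
    stalkLin (𝟙 M) y w = w := by
  obtain ⟨U, hy, m, rfl⟩ := TopCat.Presheaf.exists_germ_eq M.presheaf w
  rw [stalkLin_germ]
  rfl

/-- The components of an isomorphism with a free module. -/
theorem exists_components {X' : Scheme.{u}} (g : X' ⟶ X) {E : X.Modules} {r : ℕ}
    (e : (Scheme.Modules.pullback g).obj E ≅ FlatMod.freeMod X' r) :
    ∃ (i : Fin r → ((Scheme.Modules.pullback g).obj (Coh.structureModule X) ⟶ (Scheme.Modules.pullback g).obj E))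
      (p : Fin r → ((Scheme.Modules.pullback g).obj E ⟶ (Scheme.Modules.pullback g).obj (Coh.structureModule X))),
      (∀ k l, i k ≫ p l = if k = l then 𝟙 _ else 0) ∧ ∑ k, p k ≫ i k = 𝟙 _ := by
  classical
  let u := AmpleLib.pullO g
  let π : Fin r → (FlatMod.freeMod X' r ⟶ Coh.structureModule X') := fun l =>
    Sigma.desc fun k => if k = l then 𝟙 _ else 0
  have hπ : ∑ k, π k ≫ Sigma.ι (fun _ : Fin r => Coh.structureModule X') k = 𝟙 _ := by
    refine Sigma.hom_ext _ _ fun j => ?_
    rw [Preadditive.comp_sum, Category.comp_id, Finset.sum_eq_single j]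
    · simp [π]
    · intro k _ hk
      simp [π, hk.symm]
    · simp
  refine ⟨fun k => u.hom ≫ Sigma.ι (fun _ : Fin r => Coh.structureModule X') k ≫ e.inv,
    fun l => e.hom ≫ π l ≫ u.inv, fun k l => ?_, ?_⟩
  · simp only [Category.assoc, Iso.inv_hom_id_assoc, π, Sigma.ι_desc_assoc]
    split_ifs <;> simp
  · calc ∑ k, (e.hom ≫ π k ≫ u.inv) ≫ u.hom ≫ Sigma.ι (fun _ : Fin r => Coh.structureModule X') k ≫ e.inv
        = e.hom ≫ (∑ k, π k ≫ Sigma.ι (fun _ : Fin r => Coh.structureModule X') k) ≫ e.inv := by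
          rw [Preadditive.sum_comp, Preadditive.comp_sum]
          simp
      _ = 𝟙 _ := by rw [hπ, Category.id_comp, e.hom_inv_id]

variable [IsDomain R] [IsDiscreteValuationRing R] {ϖ : R} (hϖ : Irreducible ϖ)

include hϖ in
/-- Sections whose pullbacks frame a module on a deep truncation. -/
theorem exists_lift_frame [IsProper (str R X)] :
    ∃ n : ℕ, 0 < n ∧ ∀ (E : X.Modules), FlatMod.IsFinLocFree E → ∀ (r : ℕ) (K : Type u) [Field K] (φK : R →+* K),
      (letI := φK.toAlgebra; IsFractionRing R K) →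
      ∀ {XK : Scheme.{u}} [XK.Over (Spec (CommRingCat.of K))] (gK : XK ⟶ X),
      IsPullback gK (str K XK) (str R X) (Spec.map (CommRingCat.ofHom φK)) →
      ((Scheme.Modules.pullback gK).obj E ≅ FlatMod.freeMod XK r) →
      ∀ (B : Type u) [CommRing B] (φ : R →+* B), Function.Surjective φ → RingHom.ker φ = Ideal.span {ϖ ^ n} →
      ∀ {Xn : Scheme.{u}} [Xn.Over (Spec (CommRingCat.of B))] (g : Xn ⟶ X),
      IsPullback g (str B Xn) (str R X) (Spec.map (CommRingCat.ofHom φ)) →
      ((Scheme.Modules.pullback g).obj E ≅ FlatMod.freeMod Xn r) →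
      ∃ s : Fin r → Γ(E, ⊤), ∀ z : Xn, Submodule.span (Xn.presheaf.stalk z) (Set.range fun k =>
        pullStalk g E z (E.presheaf.germ ⊤ (g z) trivial (s k))) = ⊤ := by
  classical
  haveI : IsLocallyNoetherian X := LocallyOfFiniteType.isLocallyNoetherian (str R X)
  obtain ⟨ι, hι, V, hcov, haff⟩ := FormalLib.exists_affine_cover (str R X)
  obtain ⟨t, ht⟩ := exists_tors_stalk (X := X) ϖ
  let O := coCx R V (Coh.structureModule X)
  have hOfree : ∀ x, ∃ m, PullbackMod.FreeAt m (Coh.structureModule X) x :=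
    (PullbackMod.isFinLocFree_iff_freeAt _ (PullbackMod.isQCoh_and_isFP_of_isFinLocFree _
      (CurveLib.isFinLocFree_of_isInvertible (ParaFLib.isInvertible_structureModule (X := X)))).2).1
      (CurveLib.isFinLocFree_of_isInvertible (ParaFLib.isInvertible_structureModule (X := X)))
  have hOcoh : Coh.IsCoh (Coh.structureModule X) := CurveLib.isCoh_of_isInvertible (ParaFLib.isInvertible_structureModule (X := X))
  obtain ⟨h, a, ⟨D⟩⟩ := exists_sourceData hϖ O (tors_coch ht hOfree V 3) (finite_H V hcov haff hOcoh 0)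
    (finite_H V hcov haff hOcoh 1)
  refine ⟨2 * t + a + 1, by omega, fun E hE r K _ φK hK XK _ gK hcK eK B _ φ hφ hker Xn _ g hc eN => ?_⟩
  haveI : Coh.IsQCoh E := (PullbackMod.isQCoh_and_isFP_of_isFinLocFree E hE).1
  haveI : Coh.IsQCoh (Coh.structureModule X) := hOcoh.1
  obtain ⟨i, p, hip, hpi⟩ := exists_components g eN
  obtain ⟨iK, pK, hipK, hpiK⟩ := exists_components gK eK
  obtain ⟨sn, hsn⟩ := exists_split φ (ProperFin.preCov g V) i p hip hpi
  obtain ⟨sK, -⟩ := exists_split φK (ProperFin.preCov gK V) iK pK hipK hpiK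
  have hEfree := (PullbackMod.isFinLocFree_iff_freeAt _ (PullbackMod.isQCoh_and_isFP_of_isFinLocFree E hE).2).1 hE
  have hEcoh : Coh.IsCoh E := CurveLib.isCoh_of_isFinLocFree hE
  let πE := pullCx g φ hc V E
  let πO := pullCx g φ hc V (Coh.structureModule X)
  have hEn := isRed_pullCx g φ hc V E haff ϖ (2 * t + a + 1) hφ hker
  have hOn := isRed_pullCx g φ hc V (Coh.structureModule X) haff ϖ (2 * t + a + 1) hφ hker
  let one : Γ(Coh.structureModule X, ⊤) := (1 : Γ(X, ⊤))
  let c₁ : Coch (str R X) (Coh.structureModule X) V 0 := aug V (Coh.toAb _).obj (fun _ => le_top) one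
  have hc₁ : dL (str R X) _ V 0 c₁ = 0 := (dL_eq _ _ _ _ _).trans (cdiff_aug _ _ _)
  have hlift : ∀ k : Fin r, ∃ (s : Γ(E, ⊤)) (v y : Coch (str R X) E V 0),
      (coHom B (ProperFin.preCov g V) (i k)).f 0 (πO.f 0 c₁) = πE.f 0 v ∧
        aug V (Coh.toAb E).obj (fun _ => le_top) s = v + ϖ • y := by
    intro k
    obtain ⟨v, hv⟩ := hEn.surj 0 ((sn.I k).f 0 (πO.f 0 c₁))
    have hv0 : (resCx φ (coCx B (ProperFin.preCov g V) ((Scheme.Modules.pullback g).obj E))).d 0 (πE.f 0 v) = 0 := by
      rw [hv, comm_apply, comm_apply, show (coCx R V _).d 0 c₁ = 0 from hc₁, map_zero, map_zero]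
    obtain ⟨v', y, hv', hvy⟩ := exists_lift hϖ (E := coCx R V E) (tors_coch ht hEfree V 2) (finite_H V hcov haff hEcoh 0) D
      (by omega) hOn hEn sn (isFrac_pullCx gK φK hcK V _ haff hK) (isFrac_pullCx gK φK hcK V E haff hK) sK v hv0
    obtain ⟨s, hs⟩ := aug_exact (Coh.toAb E) (V := ⊤) (fun _ => le_top) hcov v'
      ((dL_eq (str R X) E V 0 v').symm.trans hv')
    refine ⟨s, v, y, ?_, hs.trans hvy⟩
    rw [hv, hsn]
    rfl
  choose s v y hv hs using hlift
  refine ⟨s, fun z => ?_⟩
  let M := ((Scheme.Modules.pullback g).obj E).presheaf.stalk z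
  let O' := Xn.presheaf.stalk z
  obtain ⟨a₀, ha₀⟩ := Opens.mem_iSup.1 (hcov (show g z ∈ (⊤ : X.Opens) from trivial))
  let j : Fin 1 → ι := fun _ => a₀
  have hxj : g z ∈ inter V j := (le_iInf fun _ => le_rfl : V a₀ ≤ inter V j) ha₀
  have hzj : z ∈ inter (ProperFin.preCov g V) j := (ProperFin.inter_preCov g V j).le hxj
  let e₁ := (Coh.structureModule X).presheaf.germ ⊤ (g z) trivial one
  let τ : Fin r → M := fun k => stalkLin (i k) z (pullStalk g _ z e₁)
  have he₁ : Function.Bijective fun b : X.presheaf.stalk (g z) => b • e₁ :=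
    (gen_one ⊤).bijective_germ (g z) trivial
  have hτ : Submodule.span O' (Set.range τ) = ⊤ := by
    refine eq_top_iff.2 fun w _ => ?_
    have hsum : w = ∑ k, stalkLin (i k) z (stalkLin (p k) z w) := by
      have h1 : stalkLin (∑ k, p k ≫ i k) z w = w := by rw [hpi, stalkLin_id']
      rw [stalkLin_sum'] at h1
      simp only [stalkLin_comp, LinearMap.comp_apply] at h1
      exact h1.symm
    rw [hsum]
    refine Submodule.sum_mem _ fun k _ => ?_
    obtain ⟨b, hb⟩ := (AmpleLib.bijective_pullStalk g z he₁).2 (stalkLin (p k) z w)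
    rw [← hb]
    exact (map_smul (stalkLin (i k) z) b _).symm ▸ Submodule.smul_mem _ b (Submodule.subset_span ⟨k, rfl⟩)
  obtain ⟨m, hm⟩ := hEfree (g z)
  obtain ⟨em⟩ := PullbackMod.freeAt_pullback E g z hm
  haveI : Module.Finite O' M := Module.Finite.equiv em.symm
  set N := Submodule.span O' (Set.range fun k => pullStalk g E z (E.presheaf.germ ⊤ (g z) trivial (s k)))
  have hϖz : g.stalkMap z (cg ϖ (g z)) ∈ IsLocalRing.maximalIdeal O' := by
    refine map_nonunit (g.stalkMap z).hom _ ?_
    refine CubeLib.germ_secHom_mem_maximalIdeal (R := CommRingCat.of R) (str R X) (W := ⊤) (x := g z) trivial ?_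
    let w : PrimeSpectrum B := str B Xn z
    have h1 : str R X (g z) = (Spec.map (CommRingCat.ofHom φ)) w := by
      rw [← Scheme.Hom.comp_apply, hc.w, Scheme.Hom.comp_apply]
    rw [h1]
    refine w.isPrime.mem_of_pow_mem (2 * t + a + 1) ?_
    rw [← map_pow]
    have h2 : φ (ϖ ^ (2 * t + a + 1)) = 0 := RingHom.mem_ker.1 (hker ▸ Ideal.mem_span_singleton_self _)
    show φ (ϖ ^ (2 * t + a + 1)) ∈ w.asIdeal
    rw [h2]
    exact zero_mem _
  refine top_le_iff.1 (Submodule.le_of_le_smul_of_le_jacobson_bot (I := IsLocalRing.maximalIdeal O')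
    Module.Finite.fg_top (IsLocalRing.maximalIdeal_le_jacobson _) ?_)
  refine (le_of_eq hτ.symm).trans (Submodule.span_le.2 ?_)
  rintro _ ⟨k, rfl⟩
  have key : pullStalk g E z (E.presheaf.germ ⊤ (g z) trivial (s k)) =
      τ k + g.stalkMap z (cg ϖ (g z)) • pullStalk g E z (E.presheaf.germ (inter V j) (g z) hxj (y k j)) := by
    have e1 : E.presheaf.germ ⊤ (g z) trivial (s k) = E.presheaf.germ (inter V j) (g z) hxj ((v k + ϖ • y k) j) := by
      rw [← congrFun (hs k) j]
      exact (TopCat.Presheaf.germ_res_apply E.presheaf _ (g z) hxj (s k)).symm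
    have e2 : pullStalk g E z (E.presheaf.germ (inter V j) (g z) hxj (v k j)) = τ k := by
      refine (pullStalk_germ' g E z hxj hzj (ProperFin.inter_preCov g V j).ge _).trans ?_
      refine Eq.trans (congrArg _ (congrFun (hv k) j).symm) ?_
      refine (PullbackMod.stalkLin_germ (i k) z hzj _).symm.trans ?_
      refine congrArg (stalkLin (i k) z) ?_
      refine (pullStalk_germ' g _ z hxj hzj (ProperFin.inter_preCov g V j).ge _).symm.trans ?_
      exact congrArg (pullStalk g _ z) (TopCat.Presheaf.germ_res_apply (Coh.structureModule X).presheaf _ (g z) hxj one)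
    rw [e1, Pi.add_apply, map_add, Pi.smul_apply, germ_smul_coch, map_add, pullStalk_smul, e2]
  have h5 : τ k = pullStalk g E z (E.presheaf.germ ⊤ (g z) trivial (s k)) +
      g.stalkMap z (cg ϖ (g z)) • -(pullStalk g E z (E.presheaf.germ (inter V j) (g z) hxj (y k j))) := by
    rw [key, smul_neg, add_neg_cancel_right]
  rw [h5]
  exact add_mem (Submodule.mem_sup_left (Submodule.subset_span ⟨k, rfl⟩))
    (Submodule.mem_sup_right (Submodule.smul_mem_smul hϖz Submodule.mem_top))

end Groth.Agent.TruncFreeLib
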