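import Groth.Agent.TruncFreeLib.Alg
import Groth.Agent.CubeLib.LocalTriv
import Groth.Agent.PullbackMod.LimFree

/-!
# Bounded torsion of the Čech cochains of a locally free module
-/

set_option autoImplicit false
set_option backward.isDefEq.respectTransparency false
set_option linter.style.haveILetI false

universe u

open CategoryTheory CategoryTheory.Limits AlgebraicGeometry TopologicalSpace
open Groth.Agent.CohBase Groth.Agent.ProjCoh Groth.Agent.FormalLib Groth.Agent.PullbackMod Groth.Agent.ParaFLib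
  Groth.Agent.AmpleLib

noncomputable section

namespace Groth.Agent.TruncFreeLib

variable {R : Type u} [CommRing R] {X : Scheme.{u}} [X.Over (Spec (CommRingCat.of R))]

/-- The image of a constant in a stalk. -/
def cg (r : R) (x : X) : X.presheaf.stalk x :=
  X.presheaf.germ ⊤ x trivial ((BCLib.secHom (str R X) ⊤).hom r)

theorem germ_secHom (r : R) {W : X.Opens} {x : X} (hx : x ∈ W) :
    X.presheaf.germ W x hx ((BCLib.secHom (str R X) W).hom r) = cg r x := by
  rw [cg, ← CubeLib.rs_secHom (f := str R X) (le_top : W ≤ ⊤) r]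
  exact TopCat.Presheaf.germ_res_apply X.presheaf _ x hx _

theorem cg_pow (r : R) (k : ℕ) (x : X) : cg (r ^ k) x = cg r x ^ k := by simp [cg]

/-- Scalars on sections read in the stalk. -/
theorem germ_smul_coch (M : X.Modules) {W : X.Opens} {x : X} (hx : x ∈ W) (r : R)
    (s : Sec (Coh.toGlobal (str R X)) M W) :
    M.presheaf.germ W x hx (r • s : Sec (Coh.toGlobal (str R X)) M W) = cg r x • M.presheaf.germ W x hx s := by
  rw [← germ_secHom r hx, ← germ_smul']
  rfl

/-- The torsion of the structure sheaf is bounded. -/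
theorem exists_tors_stalk [IsNoetherianRing R] [IsProper (str R X)] (ϖ : R) :
    ∃ t : ℕ, ∀ (x : X) (k : ℕ) (a : X.presheaf.stalk x), cg ϖ x ^ k * a = 0 → cg ϖ x ^ t * a = 0 := by
  classical
  haveI : IsLocallyNoetherian X := LocallyOfFiniteType.isLocallyNoetherian (str R X)
  haveI : CompactSpace X := QuasiCompact.compactSpace_of_compactSpace (str R X)
  have hloc : ∀ x : X, ∃ (W : X.Opens) (t : ℕ), x ∈ W ∧
      ∀ y ∈ W, ∀ (k : ℕ) (a : X.presheaf.stalk y), cg ϖ y ^ k * a = 0 → cg ϖ y ^ t * a = 0 := by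
    intro x
    obtain ⟨_, ⟨W : X.Opens, (hW : IsAffineOpen W), rfl⟩, hxW, -⟩ :=
      X.isBasis_affineOpens.exists_subset_of_mem_open (Set.mem_univ x) isOpen_univ
    haveI : IsNoetherianRing Γ(X, W) := IsLocallyNoetherian.component_noetherian ⟨W, hW⟩
    let c : Γ(X, W) := (BCLib.secHom (str R X) W).hom ϖ
    let K : ℕ →o Submodule Γ(X, W) Γ(X, W) :=
      ⟨fun k => LinearMap.ker (LinearMap.mulLeft Γ(X, W) (c ^ k)), fun k l hkl a ha => by
        obtain ⟨m, rfl⟩ := Nat.exists_eq_add_of_le hkl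
        rw [LinearMap.mem_ker, LinearMap.mulLeft_apply] at ha ⊢
        rw [pow_add, mul_comm (c ^ k), mul_assoc, ha, mul_zero]⟩
    obtain ⟨t, ht⟩ := monotone_stabilizes_iff_noetherian.2 inferInstance K
    refine ⟨W, t, hxW, fun y hy k a ha => ?_⟩
    letI : Algebra Γ(X, W) (X.presheaf.stalk y) := TopCat.Presheaf.algebra_section_stalk X.presheaf ⟨y, hy⟩
    haveI := hW.isLocalization_stalk ⟨y, hy⟩
    obtain ⟨⟨b, s⟩, hb⟩ := IsLocalization.surj (hW.primeIdealOf ⟨y, hy⟩).asIdeal.primeCompl a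
    have hc : algebraMap Γ(X, W) (X.presheaf.stalk y) c = cg ϖ y := germ_secHom ϖ hy
    have h1 : algebraMap Γ(X, W) (X.presheaf.stalk y) (c ^ k * b) = 0 := by
      rw [map_mul, map_pow, hc, ← hb, ← mul_assoc, ha, zero_mul]
    obtain ⟨s', hs'⟩ := (IsLocalization.map_eq_zero_iff (hW.primeIdealOf ⟨y, hy⟩).asIdeal.primeCompl _ _).1 h1
    have h2 : c ^ t * (s'.1 * b) = 0 := by
      have h3 : s'.1 * b ∈ K (max k t) := by
        refine K.mono (le_max_left k t) ?_
        show c ^ k * (s'.1 * b) = 0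
        rw [← mul_assoc, mul_comm _ s'.1, mul_assoc, hs']
      rw [← ht _ (le_max_right k t)] at h3
      exact h3
    have h4 := congrArg (algebraMap Γ(X, W) (X.presheaf.stalk y)) h2
    rw [map_mul, map_mul, map_pow, hc, ← hb, map_zero] at h4
    have hu1 := IsLocalization.map_units (X.presheaf.stalk y) s'
    have hu2 := IsLocalization.map_units (X.presheaf.stalk y) s
    rw [show cg ϖ y ^ t * (algebraMap _ _ s'.1 * (a * algebraMap _ _ s.1)) =
      (cg ϖ y ^ t * a) * (algebraMap _ _ s'.1 * algebraMap _ _ s.1) by ring] at h4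
    exact (hu1.mul hu2).mul_left_eq_zero.1 h4
  choose W t hxW hW using hloc
  obtain ⟨S, hS⟩ := isCompact_univ.elim_finite_subcover (fun x => (W x : Set X)) (fun x => (W x).2)
    (fun x _ => Set.mem_iUnion.2 ⟨x, hxW x⟩)
  refine ⟨S.sup t, fun x k a ha => ?_⟩
  obtain ⟨y, hy, hxy⟩ := Set.mem_iUnion₂.1 (hS (Set.mem_univ x))
  obtain ⟨m, hm⟩ := Nat.exists_eq_add_of_le (Finset.le_sup (f := t) hy)
  rw [hm, pow_add, mul_comm (_ ^ t y), mul_assoc, hW y x hxy k a ha, mul_zero]

/-- The same bound serves for the cochains of every module with free stalks. -/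
theorem tors_coch {ϖ : R} {t : ℕ}
    (ht : ∀ (x : X) (k : ℕ) (a : X.presheaf.stalk x), cg ϖ x ^ k * a = 0 → cg ϖ x ^ t * a = 0)
    {M : X.Modules} (hM : ∀ x, ∃ n, PullbackMod.FreeAt n M x) {ι : Type u} (V : ι → X.Opens) (q : ℕ) :
    Tors ϖ t (Coch (str R X) M V q) := by
  intro k c hc
  funext i
  refine TopCat.Presheaf.section_ext (⟨M.presheaf, M.isSheaf⟩ : TopCat.Sheaf Ab.{u} X.carrier) (inter V i) _ 0
    fun x hx => Eq.trans ?_ (map_zero _).symm
  obtain ⟨n, ⟨e⟩⟩ := hM x
  have h1 : cg ϖ x ^ k • M.presheaf.germ (inter V i) x hx (c i) = 0 := by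
    rw [← cg_pow, ← germ_smul_coch]
    exact (congrArg (M.presheaf.germ (inter V i) x hx) (congrFun hc i)).trans (map_zero _)
  show M.presheaf.germ (inter V i) x hx (ϖ ^ t • c i) = 0
  rw [germ_smul_coch, cg_pow]
  apply e.injective
  rw [map_smul, map_zero]
  funext j
  refine ht x k _ ?_
  have h2 := congrFun (congrArg e h1) j
  rw [map_smul, map_zero] at h2
  exact h2

end Groth.Agent.TruncFreeLib
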